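import Groth.Agent.L05.SepResidueSol.Valuation
import Groth.Agent.L05.TotRam.Main
import Mathlib.Algebra.Polynomial.Monic
import Mathlib.FieldTheory.IntermediateField.Adjoin.Basic
import Mathlib.LinearAlgebra.FiniteDimensional.Lemmas

/-!
Valuation subrings dominating a discrete valuation ring in an extension generated by one element: families of
elements whose combinations have the largest valuation of their terms.
-/

set_option autoImplicit false
set_option linter.style.haveILetI false
set_option linter.unusedSectionVars false
universe u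

open IsLocalRing Polynomial

namespace Groth.L05.PrimeDegree

section Basic

variable {A : Type u} [CommRing A] [IsLocalRing A] {L : Type u} [Field L] {g : A →+* L} {V : ValuationSubring L}

theorem valuation_le_one (h : EtRam.Dominates A g V) (a : A) : V.valuation (g a) ≤ 1 :=
  (V.valuation_le_one_iff _).mpr (h.1 a)

theorem valuation_unit (h : EtRam.Dominates A g V) {a : A} (ha : IsUnit a) : V.valuation (g a) = 1 := by
  obtain ⟨u, rfl⟩ := ha
  refine le_antisymm (valuation_le_one h _) ?_
  have h1 := mul_le_of_le_one_right' (a := V.valuation (g u)) (valuation_le_one h ((u⁻¹ : Aˣ) : A))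
  rwa [← map_mul, ← map_mul, Units.mul_inv, map_one, map_one] at h1

theorem valuation_eq_one_iff (h : EtRam.Dominates A g V) (a : A) : V.valuation (g a) = 1 ↔ IsUnit a :=
  ⟨fun h1 => by
    by_contra hu
    exact (h.2 a ((mem_maximalIdeal a).mpr hu)).ne h1, valuation_unit h⟩

theorem isLocalHom_codRestrict (h : EtRam.Dominates A g V) :
    letI : Algebra A V := (RingHom.codRestrict g V h.1).toAlgebra
    IsLocalHom (algebraMap A V) := by
  letI : Algebra A V := (RingHom.codRestrict g V h.1).toAlgebra
  exact ⟨fun a ha => (valuation_eq_one_iff h a).mp ((V.valuation_eq_one_iff _).mp ha)⟩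

end Basic

variable (A K : Type u) {L : Type u} [CommRing A] [IsDomain A] [IsDiscreteValuationRing A] [Field K] [Algebra A K]
  [IsFractionRing A K] [Field L] [Algebra K L] [Algebra A L] [IsScalarTower A K L]

include K in
theorem injective_algebraMap : Function.Injective (algebraMap A L) := by
  rw [IsScalarTower.algebraMap_eq A K L]
  exact (algebraMap K L).injective.comp (IsFractionRing.injective A K)

include K in
theorem exists_dominates : ∃ V : ValuationSubring L, EtRam.Dominates A (algebraMap A L) V :=
  Groth.L05.TotRam.exists_dominating A (algebraMap A L) (injective_algebraMap A K)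

variable {V : ValuationSubring L}

include K in
theorem valuation_pi_pos (h : EtRam.Dominates A (algebraMap A L) V) {π : A} (hπ : Irreducible π) :
    0 < V.valuation (algebraMap A L π) ∧ V.valuation (algebraMap A L π) < 1 :=
  ⟨zero_lt_iff.mpr ((_root_.map_ne_zero _).mpr ((map_ne_zero_iff _ (injective_algebraMap A K)).mpr hπ.ne_zero)),
    h.2 π ((mem_maximalIdeal π).mpr hπ.not_isUnit)⟩

/-- The valuation of an element of the ground field is a power of that of a uniformizer. -/
theorem exists_zpow (h : EtRam.Dominates A (algebraMap A L) V) {π : A} (hπ : Irreducible π) {k : K} (hk : k ≠ 0) :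
    ∃ j : ℤ, V.valuation (algebraMap K L k) = V.valuation (algebraMap A L π) ^ j := by
  obtain ⟨a, b, hb, rfl⟩ := IsFractionRing.div_surjective (A := A) k
  have ha : a ≠ 0 := fun h0 => hk (by rw [h0, map_zero, zero_div])
  obtain ⟨i, u, rfl⟩ := IsDiscreteValuationRing.eq_unit_mul_pow_irreducible ha hπ
  obtain ⟨i', u', rfl⟩ := IsDiscreteValuationRing.eq_unit_mul_pow_irreducible (nonZeroDivisors.ne_zero hb) hπ
  refine ⟨(i : ℤ) - i', ?_⟩
  rw [map_div₀, ← IsScalarTower.algebraMap_apply, ← IsScalarTower.algebraMap_apply, map_mul, map_mul, map_div₀,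
    map_mul, map_mul, valuation_unit h u.isUnit, valuation_unit h u'.isUnit, one_mul, one_mul, map_pow, map_pow,
    map_pow, map_pow, zpow_sub₀ (valuation_pi_pos A K h hπ).1.ne', zpow_natCast, zpow_natCast]

/-- An element of the ground field of valuation at most one lies in the valuation ring. -/
theorem exists_eq_algebraMap (h : EtRam.Dominates A (algebraMap A L) V) {k : K}
    (hk : V.valuation (algebraMap K L k) ≤ 1) : ∃ a : A, algebraMap A K a = k := by
  obtain ⟨a, ha⟩ | ⟨a, ha⟩ := ValuationRing.isInteger_or_isInteger A k
  · exact ⟨a, ha⟩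
  · by_cases hk0 : k = 0
    · exact ⟨0, by rw [map_zero, hk0]⟩
    have ha' : algebraMap A K a = k⁻¹ := ha
    have hu : IsUnit a := by
      refine (valuation_eq_one_iff h a).mp (le_antisymm (valuation_le_one h a) ?_)
      rw [IsScalarTower.algebraMap_apply A K L, ha', map_inv₀, map_inv₀]
      exact (one_le_inv₀ (zero_lt_iff.mpr ((_root_.map_ne_zero _).mpr ((_root_.map_ne_zero _).mpr hk0)))).mpr hk
    obtain ⟨u, rfl⟩ := hu
    exact ⟨((u⁻¹ : Aˣ) : A), by rw [map_units_inv, ha', inv_inv]⟩

section Family

variable {ι : Type*} [Fintype ι] {b : ι → L}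

/-- The hypothesis on a family: no cancellation, and only integral coefficients give integral terms. -/
def IsOrthogonal (b : ι → L) : Prop :=
  ∀ V : ValuationSubring L, EtRam.Dominates A (algebraMap A L) V → (∀ i, b i ∈ V) ∧
    (∀ (c : ι → K) (i : ι), V.valuation (algebraMap K L (c i) * b i) ≤ V.valuation (∑ j, algebraMap K L (c j) * b j)) ∧
    ∀ (k : K) (i : ι), V.valuation (algebraMap K L k * b i) ≤ 1 → ∃ a : A, algebraMap A K a = k

variable {A K}

theorem IsOrthogonal.linearIndependent (hb : IsOrthogonal A K b) (hne : ∀ i, b i ≠ 0) :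
    LinearIndependent K b := by
  obtain ⟨V, hV⟩ := exists_dominates A K (L := L)
  rw [Fintype.linearIndependent_iff]
  intro c hc i
  have h := (hb V hV).2.1 c i
  simp only [Algebra.smul_def] at hc
  rw [hc, map_zero, le_zero_iff, _root_.map_eq_zero, mul_eq_zero] at h
  exact ((_root_.map_eq_zero _).mp (h.resolve_right (hne i)))

variable (hb : IsOrthogonal A K b) (hspan : Submodule.span K (Set.range b) = ⊤)
include hb hspan

/-- The valuation ring consists of the combinations with integral coefficients. -/
theorem IsOrthogonal.exists_coeff {V : ValuationSubring L} (hV : EtRam.Dominates A (algebraMap A L) V) {x : L}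
    (hx : x ∈ V) : ∃ a : ι → A, x = ∑ i, algebraMap A L (a i) * b i := by
  obtain ⟨c, hc⟩ := Submodule.mem_span_range_iff_exists_fun K |>.mp (hspan ▸ Submodule.mem_top : x ∈ _)
  simp only [Algebra.smul_def] at hc
  have h : ∀ i, ∃ a : A, algebraMap A K a = c i := fun i => (hb V hV).2.2 (c i) i
    (((hb V hV).2.1 c i).trans ((congrArg V.valuation hc).trans_le ((V.valuation_le_one_iff x).mpr hx)))
  choose a ha using h
  refine ⟨a, hc.symm.trans (Finset.sum_congr rfl fun i _ => ?_)⟩
  rw [IsScalarTower.algebraMap_apply A K L, ha]

/-- There is only one dominating valuation ring. -/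
theorem IsOrthogonal.unique (V V' : ValuationSubring L) (hV : EtRam.Dominates A (algebraMap A L) V)
    (hV' : EtRam.Dominates A (algebraMap A L) V') : V = V' := by
  have key : ∀ W W' : ValuationSubring L, EtRam.Dominates A (algebraMap A L) W →
      EtRam.Dominates A (algebraMap A L) W' → ∀ x ∈ W, x ∈ W' := by
    intro W W' hW hW' x hx
    obtain ⟨a, rfl⟩ := hb.exists_coeff hspan hW hx
    exact sum_mem fun i _ => mul_mem (hW'.1 _) ((hb W' hW').1 i)
  exact SetLike.ext fun x => ⟨key V V' hV hV' x, key V' V hV' hV x⟩

end Family

variable {A K}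

/-- Below a root of a monic polynomial with a pole the leading term dominates. -/
theorem valuation_aeval (h : EtRam.Dominates A (algebraMap A L) V) {P : A[X]} (hP : P.Monic) (z : L) :
    (1 < V.valuation z → V.valuation (aeval z P) = V.valuation z ^ P.natDegree) ∧
      (V.valuation z ≤ 1 → V.valuation (aeval z P) ≤ 1) := by
  have hsum : aeval z P = z ^ P.natDegree + ∑ i ∈ Finset.range P.natDegree, algebraMap A L (P.coeff i) * z ^ i := by
    conv_lhs => rw [hP.as_sum]
    simp [map_sum]
  constructor
  · intro hz
    rw [hsum, V.valuation.map_add_eq_of_lt_left, map_pow]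
    rw [map_pow]
    refine V.valuation.map_sum_lt (pow_ne_zero _ (zero_lt_one.trans hz).ne') fun i hi => ?_
    rw [map_mul, map_pow]
    exact (mul_le_of_le_one_left' (valuation_le_one h _)).trans_lt
      (pow_lt_pow_right₀ hz (Finset.mem_range.mp hi))
  · intro hz
    rw [V.valuation_le_one_iff] at hz ⊢
    rw [hsum]
    exact add_mem (pow_mem hz _) (sum_mem fun i _ => mul_mem (h.1 _) (pow_mem hz i))

/-- A field generated by a root of a monic polynomial has at most its degree. -/
theorem finite_of_gen {f : K[X]} (hf : f ≠ 0) {z : L} (hz : aeval z f = 0)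
    (hgen : IntermediateField.adjoin K {z} = ⊤) : FiniteDimensional K L ∧ Module.finrank K L ≤ f.natDegree := by
  have hint : IsIntegral K z := isAlgebraic_iff_isIntegral.mp ⟨f, hf, hz⟩
  haveI := IntermediateField.adjoin.finiteDimensional hint
  have e : IntermediateField.adjoin K {z} ≃ₐ[K] L := (IntermediateField.equivOfEq hgen).trans IntermediateField.topEquiv
  haveI : FiniteDimensional K L := Module.Finite.equiv e.toLinearEquiv
  refine ⟨inferInstance, ?_⟩
  rw [← e.toLinearEquiv.finrank_eq, IntermediateField.adjoin.finrank hint]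
  exact natDegree_le_of_dvd (minpoly.dvd K z hz) hf

end Groth.L05.PrimeDegree
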