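import Groth.Agent.L05.PrimeDegree.Valued
import Groth.Agent.L05.TameRoot.Generated
import Mathlib.FieldTheory.Galois.Basic
import Mathlib.RingTheory.Nilpotent.Lemmas
import Mathlib.RingTheory.Ideal.Quotient.Nilpotent
import Mathlib.Algebra.Squarefree.Basic

/-!
An extension generated by a root of a monic polynomial with separable reduction is unramified; extensions of
degree at most a prime generated by an element with all its conjugates.
-/

set_option autoImplicit false
set_option linter.style.haveILetI false
set_option linter.unusedSectionVars false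
set_option maxSynthPendingDepth 3
universe u

open IsLocalRing Polynomial

namespace Groth.L05.PrimeDegree

theorem isSemisimpleRing_adjoinRoot_of_separable {k : Type u} [Field k] {f : k[X]} (hf : f.Separable) :
    IsSemisimpleRing (AdjoinRoot f) := by
  have h0 : f ≠ 0 := hf.ne_zero
  haveI : _root_.IsReduced (AdjoinRoot f) :=
    (Ideal.isRadical_iff_quotient_reduced _).mp (isRadical_iff_span_singleton.mp hf.squarefree.isRadical)
  haveI : Module.Finite k (AdjoinRoot f) := (AdjoinRoot.powerBasis h0).finite
  haveI : IsArtinianRing (AdjoinRoot f) := IsArtinianRing.of_finite k _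
  exact IsArtinianRing.isSemisimpleRing_of_isReduced _

variable {A K L : Type u} [CommRing A] [IsDomain A] [IsDiscreteValuationRing A] [Field K] [Algebra A K]
  [IsFractionRing A K] [Field L] [Algebra K L] [Algebra A L] [IsScalarTower A K L]

/-- Separable reduction of the equation of a generator gives an unramified extension. -/
theorem isUnramifiedExt {f : A[X]} (hf : f.Monic) (hsep : (f.map (residue A)).Separable) {z : L}
    (hgen : IntermediateField.adjoin K {z} = ⊤) (hz : aeval z f = 0) :
    EtRam.IsUnramifiedExt A (algebraMap A L) := by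
  classical
  obtain ⟨π, hπ⟩ := IsDiscreteValuationRing.exists_irreducible A
  haveI : FiniteDimensional K L := (finite_of_gen (K := K) (z := z) (f := f.map (algebraMap A K))
    (hf.map _).ne_zero (by rw [aeval_map_algebraMap, hz]) hgen).1
  intro V hV
  letI : Algebra A V := (RingHom.codRestrict (algebraMap A L) V hV.1).toAlgebra
  intro _
  haveI : IsScalarTower A V L := IsScalarTower.of_algebraMap_eq fun _ => rfl
  obtain ⟨hdW, hsepW⟩ := Groth.L05.SepResidueSol.isDiscreteValuationRing_of_finite A K V
  have hzV : z ∈ V := by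
    by_contra hzV
    have h1 : 1 < V.valuation z := not_le.mp fun h => hzV ((V.valuation_le_one_iff z).mp h)
    have h2 := (valuation_aeval hV hf z).1 h1
    rw [hz, map_zero] at h2
    exact pow_ne_zero _ (zero_lt_one.trans h1).ne' h2.symm
  let y : V := ⟨z, hzV⟩
  have hev : eval₂ (algebraMap A V) y f = 0 := by
    rw [← aeval_def]
    exact Subtype.ext ((aeval_algebraMap_apply L y f).symm.trans hz)
  let ψ : AdjoinRoot f →+* V := AdjoinRoot.lift (algebraMap A V) y hev
  have hψof : ∀ a, ψ (algebraMap A _ a) = algebraMap A V a := fun a => AdjoinRoot.lift_of hev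
  have hψroot : ψ (AdjoinRoot.root _) = y := AdjoinRoot.lift_root hev
  let P := algebraMap A (AdjoinRoot f) π
  have hπu : ¬ IsUnit (algebraMap A V π) := fun h => hπ.not_isUnit ((isUnit_map_iff _ π).mp h)
  have hπ0 : algebraMap A V π ≠ 0 := fun h => hπ.ne_zero ((injective_algebraMap A K (L := L)) (by
    rw [map_zero, IsScalarTower.algebraMap_apply A V L, h, map_zero]))
  let g : ResidueField A →+* AdjoinRoot f ⧸ Ideal.span {P} :=
    Ideal.Quotient.lift (maximalIdeal A) ((Ideal.Quotient.mk (Ideal.span {P})).comp (algebraMap A _)) fun a ha => by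
      rw [hπ.maximalIdeal_eq, Ideal.mem_span_singleton] at ha
      obtain ⟨c, rfl⟩ := ha
      refine Ideal.Quotient.eq_zero_iff_mem.mpr ?_
      rw [map_mul]
      exact Ideal.mul_mem_right _ _ (Ideal.mem_span_singleton_self _)
  haveI := isSemisimpleRing_adjoinRoot_of_separable hsep
  have hx : eval₂ g (Ideal.Quotient.mk _ (AdjoinRoot.root f)) (f.map (residue A)) = 0 := by
    rw [eval₂_map, show g.comp (residue A) = (Ideal.Quotient.mk (Ideal.span {P})).comp (algebraMap A _) from rfl,
      ← hom_eval₂, AdjoinRoot.algebraMap_eq, AdjoinRoot.eval₂_root, map_zero]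
  haveI : IsSemisimpleRing (AdjoinRoot f ⧸ Ideal.span {P}) := by
    refine RingHom.isSemisimpleRing_of_surjective (AdjoinRoot.lift g _ hx) fun z => ?_
    obtain ⟨z, rfl⟩ := Ideal.Quotient.mk_surjective z
    obtain ⟨q, rfl⟩ := AdjoinRoot.mk_surjective z
    show _ ∈ (AdjoinRoot.lift g _ hx).range
    induction q using Polynomial.induction_on' with
    | add a b ha hb => rw [map_add, map_add]; exact add_mem ha hb
    | monomial m a =>
      rw [← C_mul_X_pow_eq_monomial, map_mul, map_mul, map_pow, map_pow]
      have hroot : Ideal.Quotient.mk (Ideal.span {P}) (AdjoinRoot.mk f X) ∈ (AdjoinRoot.lift g _ hx).range :=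
        ⟨AdjoinRoot.root _, AdjoinRoot.lift_root hx⟩
      exact mul_mem ⟨AdjoinRoot.of _ (residue A a), AdjoinRoot.lift_of hx⟩ (pow_mem hroot m)
  obtain ⟨hmax, hres⟩ := Groth.L05.Abhyankar.local_data V ψ P (by rw [hψof]; exact hπ0) (by rw [hψof]; exact hπu)
    (fun x hx => by
      obtain ⟨N, hN⟩ := hsepW hπ x hx
      exact ⟨N, by rwa [hψof]⟩)
    (Groth.L05.TameRoot.mem_closure_range A K V ψ (algebraMap A _) hψof (AdjoinRoot.root f) (congrArg Subtype.val hψroot) hgen)
  rw [hψof] at hmax
  refine ⟨by
    show (maximalIdeal A).map (algebraMap A V) = maximalIdeal V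
    rw [hπ.maximalIdeal_eq, Ideal.map_span, Set.image_singleton, hmax], ⟨fun t => ?_⟩⟩
  rw [← mem_separableClosure_iff]
  let Sc := separableClosure (ResidueField A) (ResidueField V)
  have hθ : residue V y ∈ Sc := by
    rw [mem_separableClosure_iff]
    refine hsep.of_dvd (minpoly.dvd _ _ ?_)
    rw [aeval_def, eval₂_map, show (algebraMap (ResidueField A) (ResidueField V)).comp (residue A) =
      (residue V).comp (algebraMap A V) from rfl, ← hom_eval₂, hev, map_zero]
  have hrange : ∀ t, residue V (ψ t) ∈ Sc := fun t => by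
    obtain ⟨q, rfl⟩ := AdjoinRoot.mk_surjective t
    show residue V (AdjoinRoot.lift (algebraMap A V) y hev (AdjoinRoot.mk f q)) ∈ Sc
    rw [AdjoinRoot.lift_mk]
    induction q using Polynomial.induction_on' with
    | add a b ha hb => rw [eval₂_add, map_add]; exact add_mem ha hb
    | monomial m a =>
      rw [eval₂_monomial, map_mul, map_pow]
      refine mul_mem ?_ (pow_mem hθ m)
      exact Sc.algebraMap_mem (residue A a)
  obtain ⟨r, s, hs, hts⟩ := hres t
  rw [show t = residue V (ψ r) / residue V (ψ s) by rw [← hts, mul_div_assoc, div_self hs, mul_one]]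
  exact div_mem (hrange r) (hrange s)

omit [IsDomain A] [IsDiscreteValuationRing A] in
/-- Galois extensions of degree at most a prime with all automorphisms of that exponent. -/
theorem finrank_cases {p : ℕ} (hp : p.Prime) [FiniteDimensional K L] [IsGalois K L]
    (hle : Module.finrank K L ≤ p) (hσ : ∀ σ : Gal(L/K), σ ^ p = 1) :
    Module.finrank K L = 1 ∨ Module.finrank K L = p := by
  haveI := Fact.mk hp
  rw [← IsGalois.card_aut_eq_finrank] at hle ⊢
  by_cases h : ∀ σ : Gal(L/K), σ = 1
  · exact Or.inl (Nat.card_eq_one_iff_unique.mpr ⟨⟨fun a b => (h a).trans (h b).symm⟩, ⟨1⟩⟩)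
  · push Not at h
    obtain ⟨σ, hσ1⟩ := h
    exact Or.inr (le_antisymm hle ((orderOf_eq_prime (hσ σ) hσ1) ▸ orderOf_le_card))

omit [IsDomain A] [IsDiscreteValuationRing A] in
/-- A field generated by one of the full set of roots of a polynomial is Galois. -/
theorem isGalois_of_roots {f : K[X]} (hf : f.Monic) {p : ℕ} (hdeg : f.natDegree = p) (r : Fin p → L)
    (hinj : Function.Injective r) (hroot : ∀ i, aeval (r i) f = 0) {z : L} (i₀ : Fin p) (hi : r i₀ = z)
    (hgen : IntermediateField.adjoin K {z} = ⊤) :
    IsGalois K L ∧ FiniteDimensional K L ∧ Module.finrank K L ≤ p ∧ ∀ σ : Gal(L/K), ∃ i, σ z = r i := by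
  classical
  obtain ⟨hfin, hle⟩ := finite_of_gen (K := K) (z := z) hf.ne_zero (hi ▸ hroot i₀) hgen
  haveI := hfin
  have hne : f.map (algebraMap K L) ≠ 0 := (hf.map _).ne_zero
  have hsub : (Finset.univ.image r).val ≤ (f.map (algebraMap K L)).roots := by
    refine (Multiset.le_iff_subset (Finset.nodup _)).mpr fun x hx => ?_
    obtain ⟨i, -, rfl⟩ := Finset.mem_image.mp (Finset.mem_def.mpr hx)
    rw [mem_roots hne, IsRoot, eval_map, ← aeval_def, hroot]
  have hcard : (Finset.univ.image r).val.card = p := by
    rw [Finset.card_val, Finset.card_image_of_injective _ hinj, Finset.card_univ, Fintype.card_fin]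
  have heq : (f.map (algebraMap K L)).roots = (Finset.univ.image r).val :=
    (Multiset.eq_of_le_of_card_le hsub (by
      rw [hcard]; exact (card_roots' _).trans (by rw [hf.natDegree_map, hdeg]))).symm
  have hsplit : (f.map (algebraMap K L)).Splits :=
    splits_iff_card_roots.mpr (by rw [heq, hcard, hf.natDegree_map, hdeg])
  have hmem : ∀ x, aeval x f = 0 → ∃ i, x = r i := fun x hx => by
    have h : x ∈ (f.map (algebraMap K L)).roots := by rw [mem_roots hne, IsRoot, eval_map, ← aeval_def, hx]
    rw [heq] at h
    obtain ⟨i, -, rfl⟩ := Finset.mem_image.mp (Finset.mem_def.mpr h)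
    exact ⟨i, rfl⟩
  haveI : f.IsSplittingField K L := ⟨hsplit, by
    refine top_unique fun x _ => ?_
    have hx : x ∈ (IntermediateField.adjoin K {z}).toSubalgebra := by rw [hgen]; trivial
    rw [IntermediateField.adjoin_simple_toSubalgebra_of_isAlgebraic (Algebra.IsAlgebraic.isAlgebraic z)] at hx
    exact Algebra.adjoin_mono (Set.singleton_subset_iff.mpr
      ((mem_rootSet_of_ne hf.ne_zero).mpr (hi ▸ hroot i₀))) hx⟩
  have hsep : f.Separable := by
    rw [← separable_map (algebraMap K L)]
    exact (nodup_roots_iff_of_splits hne hsplit).mp (by rw [heq]; exact Finset.nodup _)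
  exact ⟨IsGalois.of_separable_splitting_field hsep, hfin, hle.trans_eq hdeg, fun σ =>
    hmem (σ z) (by rw [aeval_algHom_apply σ z f, ← hi, hroot i₀, map_zero])⟩

omit [IsDomain A] [IsDiscreteValuationRing A] in
theorem algEquiv_ext {z : L} (hgen : IntermediateField.adjoin K {z} = ⊤) {σ τ : Gal(L/K)} (h : σ z = τ z) :
    σ = τ := by
  refine AlgEquiv.ext fun x => ?_
  have hx : x ∈ IntermediateField.adjoin K {z} := hgen ▸ IntermediateField.mem_top
  induction hx using IntermediateField.adjoin_induction with
  | mem y hy => rw [Set.mem_singleton_iff.mp hy, h]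
  | algebraMap k => rw [σ.commutes, τ.commutes]
  | add a b _ _ ha hb => rw [map_add, map_add, ha, hb]
  | inv a _ ha => rw [map_inv₀, map_inv₀, ha]
  | mul a b _ _ ha hb => rw [map_mul, map_mul, ha, hb]

end Groth.L05.PrimeDegree
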