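import Groth.Agent.L05.PrimeDegree.Cases
import Groth.Agent.L05.PrimeDegree.Unramified
import Mathlib.Algebra.CharP.Frobenius
import Mathlib.Algebra.Polynomial.Degree.Lemmas

/-!
Artin-Schreier extensions of a discrete valuation field.
-/

set_option autoImplicit false
set_option linter.style.haveILetI false
set_option linter.unusedSectionVars false
universe u

open IsLocalRing Polynomial

namespace Groth.L05.PrimeDegree

variable {p : ℕ} {A K L : Type u} [CommRing A] [IsDomain A] [IsDiscreteValuationRing A] [Field K] [Algebra A K]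
  [IsFractionRing A K] [Field L] [Algebra K L] [Algebra A L] [IsScalarTower A K L]

theorem monic_as (R : Type u) [CommRing R] [Nontrivial R] (hp : 1 < p) (c : R) :
    (X ^ p - X - C c : R[X]).Monic ∧ (X ^ p - X - C c : R[X]).natDegree = p := by
  have h1 : (X : R[X]).degree < (p : WithBot ℕ) := by rw [degree_X]; exact_mod_cast hp
  have h2 : (X ^ p - X : R[X]).natDegree = p := by
    rw [natDegree_sub_eq_left_of_natDegree_lt (by rw [natDegree_X_pow, natDegree_X]; exact hp), natDegree_X_pow]
  refine ⟨(monic_X_pow_sub h1).sub_of_left ?_, by rw [natDegree_sub_C, h2]⟩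
  rw [degree_eq_natDegree (monic_X_pow_sub h1).ne_zero, h2]
  exact degree_C_le.trans_lt (by exact_mod_cast zero_lt_one.trans hp)

variable [CharP K p] (hp : p.Prime)
include hp

theorem charP_ring (K : Type u) [Field K] [Algebra A K] [IsFractionRing A K] [CharP K p] : CharP A p := by
  haveI := Fact.mk hp
  exact (CharP.charP_iff_prime_eq_zero hp).mpr
    (IsFractionRing.injective A K (by rw [map_natCast, CharP.cast_eq_zero, map_zero]))

theorem charP_residue (K : Type u) [Field K] [Algebra A K] [IsFractionRing A K] [CharP K p] : CharP (ResidueField A) p :=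
  haveI := charP_ring (A := A) hp K
  (CharP.charP_iff_prime_eq_zero hp).mpr (by rw [← map_natCast (residue A), CharP.cast_eq_zero, map_zero])

variable {ξ : K} {z : L} (hgen : IntermediateField.adjoin K {z} = ⊤) (hz : z ^ p - z = algebraMap K L ξ)
include hgen hz

theorem as_galois : IsGalois K L ∧ (Module.finrank K L = 1 ∨ Module.finrank K L = p) := by
  haveI := Fact.mk hp
  haveI : CharP L p := charP_of_injective_algebraMap (algebraMap K L).injective p
  obtain ⟨hf, hdeg⟩ := monic_as K hp.one_lt ξ
  obtain ⟨hgal, hfin, hle, hconj⟩ := isGalois_of_roots hf hdeg (fun i : Fin p => z + ((i : ℕ) : L))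
    (fun i j h => Fin.ext (CharP.natCast_injOn_Iio L p i.2 j.2 (add_left_cancel h)))
    (fun i => by
      rw [map_sub, map_sub, map_pow, aeval_X, aeval_C, add_pow_char, ← hz]
      have : ((i : ℕ) : L) ^ p = (i : ℕ) := by rw [← frobenius_def]; exact map_natCast (frobenius L p) _
      rw [this]
      ring)
    ⟨0, hp.pos⟩ (by simp) hgen
  haveI := hgal
  haveI := hfin
  refine ⟨hgal, finrank_cases hp hle fun σ => algEquiv_ext hgen ?_⟩
  obtain ⟨i, hi⟩ := hconj σ
  have key : ∀ j : ℕ, (σ ^ j) z = z + (j : L) * ((i : ℕ) : L) := by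
    intro j
    induction j with
    | zero => simp
    | succ j ih =>
      rw [pow_succ', AlgEquiv.mul_apply, ih, map_add, map_mul, map_natCast, map_natCast, hi, Nat.cast_succ]
      ring
  rw [key p, CharP.cast_eq_zero, zero_mul, add_zero, AlgEquiv.one_apply]

variable {π : A} (hπ : Irreducible π)

/-- An integral right hand side. -/
theorem as_integral (h : ∃ a : A, algebraMap A K a = ξ) :
    Module.finrank K L = 1 ∨ (EtRam.IsUnramifiedExt A (algebraMap A L) ∧ Module.finrank K L = p) := by
  obtain ⟨a, rfl⟩ := h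
  refine (as_galois hp hgen hz).2.imp_right fun h => ⟨?_, h⟩
  haveI := charP_residue (A := A) hp K
  obtain ⟨hf, -⟩ := monic_as A hp.one_lt a
  refine isUnramifiedExt (f := X ^ p - X - C a) hf ?_ hgen ?_
  · rw [Polynomial.map_sub, Polynomial.map_sub, Polynomial.map_pow, map_X, map_C, separable_def']
    refine ⟨0, -1, ?_⟩
    rw [derivative_sub, derivative_sub, derivative_X_pow, derivative_X, derivative_C, CharP.cast_eq_zero]
    simp
  · rw [map_sub, map_sub, map_pow, aeval_X, aeval_C, hz, IsScalarTower.algebraMap_apply A K L, sub_self]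

include hπ

/-- A pole of order prime to `p`. -/
theorem as_totallyRamified {n : ℕ} {a : Aˣ} (hn : 0 < n) (hnp : ¬ p ∣ n)
    (ha : ξ * algebraMap A K π ^ n = algebraMap A K a) :
    EtRam.IsTotallyRamified A (algebraMap A L) ∧ Module.finrank K L = p := by
  obtain ⟨hf, hdeg⟩ := monic_as A hp.one_lt 0
  rw [map_zero, sub_zero] at hf hdeg
  exact totallyRamified hp.pos hπ hf hdeg hgen (ξ := ξ) (by rw [map_sub, map_pow, aeval_X, hz]) hn
    ((hp.coprime_iff_not_dvd.mpr hnp).symm) a ha

/-- A pole of order divisible by `p` whose coefficient has no root in the residue field. -/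
theorem as_insep {n : ℕ} {a : A} (hn : 0 < n) (hnp : p ∣ n) (hr : ∀ r : A, residue A a ≠ residue A r ^ p)
    (ha : ξ * algebraMap A K π ^ n = algebraMap A K a) : InsepCase p A (algebraMap A L) := by
  haveI := charP_residue (A := A) hp K
  obtain ⟨m, rfl⟩ := hnp
  obtain ⟨hf, hdeg⟩ := monic_as A hp.one_lt 0
  rw [map_zero, sub_zero] at hf hdeg
  have hm : m ≠ 0 := fun h => by simp [h] at hn
  have hπ0 : algebraMap A L π ≠ 0 :=
    (map_ne_zero_iff _ (injective_algebraMap A K (L := L))).mpr hπ.ne_zero
  refine insepCase (K := K) hp hπ (Q := (X ^ p - X : A[X]).scaleRoots (π ^ m)) ((monic_scaleRoots_iff _).mpr hf)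
    (by rw [natDegree_scaleRoots, hdeg]) ?_ (w := algebraMap A L (π ^ m) * z) ?_ ?_ hr
  · rw [map_scaleRoots _ _ _ (by rw [hf.leadingCoeff, map_one]; exact one_ne_zero), map_pow,
      show residue A π = 0 from (residue_eq_zero_iff π).mpr ((mem_maximalIdeal π).mpr hπ.not_isUnit),
      zero_pow hm, scaleRoots_zero, (hf.map _).leadingCoeff, one_smul, hf.natDegree_map, hdeg]
  · refine adjoin_eq_top_of_mem hgen ?_
    have h := IntermediateField.mem_adjoin_simple_self K (algebraMap A L (π ^ m) * z)
    have h2 : z = algebraMap K L ((algebraMap A K (π ^ m))⁻¹) * (algebraMap A L (π ^ m) * z) := by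
      rw [← mul_assoc, map_inv₀, ← IsScalarTower.algebraMap_apply, inv_mul_cancel₀, one_mul]
      rw [map_pow]; exact pow_ne_zero _ hπ0
    rw [h2]
    exact mul_mem (IntermediateField.algebraMap_mem _ _) (by rwa [← h2])
  · rw [aeval_def, scaleRoots_eval₂_mul, ← aeval_def, hdeg, map_sub, aeval_X_pow, aeval_X, hz, map_pow (algebraMap A L), ← pow_mul,
      IsScalarTower.algebraMap_apply A K L, IsScalarTower.algebraMap_apply A K L a, ← ha, map_mul, map_pow,
      mul_comm m p, mul_comm]

omit hgen hz hπ in
theorem as_trichotomy (π : A) (hπ : Irreducible π) : ∀ (n : ℕ) (ξ : K) (z : L),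
    IntermediateField.adjoin K {z} = ⊤ → z ^ p - z = algebraMap K L ξ →
    (∃ a : A, ξ * algebraMap A K π ^ n = algebraMap A K a) →
    Module.finrank K L = 1 ∨ (EtRam.IsUnramifiedExt A (algebraMap A L) ∧ Module.finrank K L = p) ∨
      (EtRam.IsTotallyRamified A (algebraMap A L) ∧ Module.finrank K L = p) ∨ InsepCase p A (algebraMap A L) := by
  intro n
  induction n with
  | zero =>
    intro ξ z hgen hz ⟨a, ha⟩
    rw [pow_zero, mul_one] at ha
    exact (as_integral hp hgen hz ⟨a, ha.symm⟩).imp_right Or.inl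
  | succ n ih =>
    intro ξ z hgen hz ⟨a, ha⟩
    have hπ0 : algebraMap A K π ≠ 0 := (map_ne_zero_iff _ (IsFractionRing.injective A K)).mpr hπ.ne_zero
    have descend : ∀ (ξ' : K) (z' : L), IntermediateField.adjoin K {z'} = ⊤ → z' ^ p - z' = algebraMap K L ξ' →
        ∀ a' : A, ξ' * algebraMap A K π ^ (n + 1) = algebraMap A K a' → ¬ IsUnit a' →
        Module.finrank K L = 1 ∨ (EtRam.IsUnramifiedExt A (algebraMap A L) ∧ Module.finrank K L = p) ∨
          (EtRam.IsTotallyRamified A (algebraMap A L) ∧ Module.finrank K L = p) ∨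
            InsepCase p A (algebraMap A L) := by
      intro ξ' z' hgen' hz' a' ha' hu
      obtain ⟨c, rfl⟩ := Ideal.mem_span_singleton.mp (hπ.maximalIdeal_eq ▸ (mem_maximalIdeal a').mpr hu)
      exact ih ξ' z' hgen' hz' ⟨c, mul_left_cancel₀ hπ0 (by rw [← map_mul, ← ha']; ring)⟩
    by_cases hu : IsUnit a
    swap
    · exact descend ξ z hgen hz a ha hu
    by_cases hnp : p ∣ n + 1
    swap
    · exact Or.inr (Or.inr (Or.inl (as_totallyRamified hp hgen hz hπ n.succ_pos hnp (a := hu.unit) ha)))
    by_cases hr : ∀ r : A, residue A a ≠ residue A r ^ p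
    · exact Or.inr (Or.inr (Or.inr (as_insep hp hgen hz hπ n.succ_pos hnp hr ha)))
    push Not at hr
    obtain ⟨r, hr⟩ := hr
    obtain ⟨m, hm⟩ := hnp
    have hm0 : m ≠ 0 := fun h => by simp [h] at hm
    haveI := Fact.mk hp
    haveI : CharP L p := charP_of_injective_algebraMap (algebraMap K L).injective p
    haveI := charP_residue (A := A) hp K
    set c : K := algebraMap A K r / algebraMap A K π ^ m with hc
    refine descend (ξ - c ^ p + c) (z - algebraMap K L c) ?_ ?_ (a - r ^ p + r * π ^ (n + 1 - m)) ?_ ?_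
    · refine adjoin_eq_top_of_mem hgen ?_
      have h := IntermediateField.mem_adjoin_simple_self K (z - algebraMap K L c)
      simpa using add_mem h (IntermediateField.algebraMap_mem _ c)
    · rw [sub_pow_char, map_add, map_sub, map_pow, ← hz]
      ring
    · have hle : m ≤ n + 1 := hm ▸ Nat.le_mul_of_pos_left m hp.pos
      rw [map_add, map_sub, map_mul, map_pow, map_pow, ← ha, add_mul, sub_mul, hc, div_pow, ← pow_mul,
        mul_comm m p, ← hm, div_mul_cancel₀ _ (pow_ne_zero _ hπ0)]
      congr 1
      rw [div_mul_eq_mul_div, eq_comm, eq_div_iff (pow_ne_zero _ hπ0), mul_assoc, ← pow_add, Nat.sub_add_cancel hle]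
    · have h2 : m < n + 1 := by
        rw [hm]
        exact lt_mul_of_one_lt_left (Nat.pos_of_ne_zero hm0) hp.one_lt
      intro hu2
      refine (hu2.map (residue A)).ne_zero ?_
      rw [map_add, map_sub, map_mul, map_pow, map_pow, hr,
        show residue A π = 0 from (residue_eq_zero_iff π).mpr ((mem_maximalIdeal π).mpr hπ.not_isUnit),
        zero_pow (by omega), mul_zero, sub_self, add_zero]

end Groth.L05.PrimeDegree
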