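import Groth.Agent.L05.PrimeDegree.Valued
import Mathlib.FieldTheory.KummerPolynomial
import Mathlib.FieldTheory.PurelyInseparable.Basic
import Mathlib.RingTheory.Polynomial.ScaleRoots
import Mathlib.RingTheory.Coprime.Lemmas

/-!
The two ramified cases of an extension of prime degree: a pole of order prime to the degree, and a purely
inseparable residue equation.
-/

set_option autoImplicit false
set_option linter.style.haveILetI false
set_option linter.unusedSectionVars false
universe u

open IsLocalRing Polynomial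

namespace Groth.L05.PrimeDegree

/-- One valuation ring, weakly unramified, with purely inseparable residue extension of degree `p`. -/
def InsepCase (p : ℕ) (A : Type u) [CommRing A] [IsLocalRing A] {L : Type u} [Field L] (g : A →+* L) : Prop :=
  (∃ V : ValuationSubring L, EtRam.Dominates A g V) ∧
    (∀ V V' : ValuationSubring L, EtRam.Dominates A g V → EtRam.Dominates A g V' → V = V') ∧
    ∀ (V : ValuationSubring L) (h : EtRam.Dominates A g V),
      letI : Algebra A V := (RingHom.codRestrict g V h.1).toAlgebra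
      ∀ [IsLocalHom (algebraMap A V)],
        EtRam.IsWeaklyUnramified A V ∧
          IsPurelyInseparable (ResidueField A) (ResidueField V) ∧
          Module.finrank (ResidueField A) (ResidueField V) = p

variable {A K L : Type u} [CommRing A] [IsDomain A] [IsDiscreteValuationRing A] [Field K] [Algebra A K]
  [IsFractionRing A K] [Field L] [Algebra K L] [Algebra A L] [IsScalarTower A K L]

theorem adjoin_eq_top_of_mem {z w : L} (hgen : IntermediateField.adjoin K {z} = ⊤)
    (h : z ∈ IntermediateField.adjoin K {w}) : IntermediateField.adjoin K {w} = ⊤ :=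
  top_unique (hgen ▸ IntermediateField.adjoin_simple_le_iff.mpr h)

/-- A family of independent elements as long as the degree of a generator spans. -/
theorem span_eq_top {p : ℕ} (hp : 0 < p) {b : Fin p → L} (hb : LinearIndependent K b) [FiniteDimensional K L]
    (hle : Module.finrank K L ≤ p) : Module.finrank K L = p ∧ Submodule.span K (Set.range b) = ⊤ := by
  have h := hb.fintype_card_le_finrank
  rw [Fintype.card_fin] at h
  haveI : Nonempty (Fin p) := ⟨⟨0, hp⟩⟩
  exact ⟨le_antisymm hle h, hb.span_eq_top_of_card_eq_finrank (by rw [Fintype.card_fin]; omega)⟩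

/-- A pole of order prime to the degree gives a totally ramified extension. -/
theorem totallyRamified {p : ℕ} (hp : 0 < p) {π : A} (hπ : Irreducible π) {P : A[X]} (hP : P.Monic)
    (hdeg : P.natDegree = p) {z : L} (hgen : IntermediateField.adjoin K {z} = ⊤) {ξ : K}
    (hz : aeval z P = algebraMap K L ξ) {n : ℕ} (hn : 0 < n) (hnp : n.Coprime p) (a : Aˣ)
    (ha : ξ * algebraMap A K π ^ n = algebraMap A K a) :
    EtRam.IsTotallyRamified A (algebraMap A L) ∧ Module.finrank K L = p := by
  classical
  obtain ⟨hfin, hle⟩ := finite_of_gen (K := K) (z := z) (f := P.map (algebraMap A K) - C ξ)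
    (fun h => by
      have h1 := congrArg Polynomial.natDegree h
      rw [natDegree_sub_C, hP.natDegree_map, hdeg, natDegree_zero] at h1
      omega) (by rw [map_sub, aeval_map_algebraMap, hz, aeval_C, sub_self]) hgen
  rw [natDegree_sub_C, hP.natDegree_map, hdeg] at hle
  haveI := hfin
  obtain ⟨i, j, hij⟩ : ∃ i j : ℤ, i * p + j * n = 1 := by
    obtain ⟨i, j, h⟩ := Int.isCoprime_iff_gcd_eq_one.mpr (show Int.gcd (p : ℤ) n = 1 from hnp.symm)
    exact ⟨i, j, h⟩
  set ρ : L := z ^ (-j) * algebraMap A L π ^ i with hρ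
  -- facts at each valuation ring
  have facts : ∀ V : ValuationSubring L, EtRam.Dominates A (algebraMap A L) V →
      V.valuation ρ ^ p = V.valuation (algebraMap A L π) ∧ 0 < V.valuation ρ ∧ V.valuation ρ < 1 := by
    intro V hV
    obtain ⟨hpos, hlt⟩ := valuation_pi_pos A K hV hπ
    have h1 : V.valuation (aeval z P) * V.valuation (algebraMap A L π) ^ n = 1 := by
      rw [hz, IsScalarTower.algebraMap_apply A K L π, ← map_pow, ← map_mul, ← map_pow, ← map_mul, ha,
        ← IsScalarTower.algebraMap_apply, valuation_unit hV a.isUnit]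
    have hz1 : 1 < V.valuation z := by
      by_contra h
      have h2 : V.valuation (aeval z P) * V.valuation (algebraMap A L π) ^ n ≤ V.valuation (algebraMap A L π) ^ n :=
        mul_le_of_le_one_left' ((valuation_aeval hV hP z).2 (not_lt.mp h))
      rw [h1] at h2
      exact (pow_lt_one₀ zero_le hlt hn.ne').not_ge h2
    rw [(valuation_aeval hV hP z).1 hz1, hdeg] at h1
    have hz0 : V.valuation z ≠ 0 := (zero_lt_one.trans hz1).ne'
    have h3 : V.valuation ρ ^ p = V.valuation (algebraMap A L π) := by
      have h4 : V.valuation z ^ p = (V.valuation (algebraMap A L π) ^ n)⁻¹ := eq_inv_of_mul_eq_one_left h1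
      rw [hρ, map_mul, map_zpow₀, map_zpow₀, mul_pow, ← zpow_natCast, ← zpow_natCast, ← zpow_mul, ← zpow_mul,
        mul_comm (-j) (p : ℤ), zpow_mul, zpow_natCast, h4, ← zpow_natCast, inv_zpow', ← zpow_mul,
        ← zpow_add₀ hpos.ne', show (n : ℤ) * - -j + i * p = 1 by linear_combination hij, zpow_one]
    refine ⟨h3, zero_lt_iff.mpr fun h0 => hpos.ne' (by rw [← h3, h0, zero_pow hp.ne']), ?_⟩
    by_contra h
    exact (h3 ▸ hlt : V.valuation ρ ^ p < 1).not_ge (one_le_pow₀ (not_lt.mp h))
  have hb : IsOrthogonal A K (fun i : Fin p => ρ ^ (i : ℕ)) := by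
    intro V hV
    obtain ⟨h3, hpos, hlt⟩ := facts V hV
    have hval : ∀ k : K, k ≠ 0 → ∀ i : Fin p, ∃ e : ℤ,
        V.valuation (algebraMap K L k * ρ ^ (i : ℕ)) = V.valuation ρ ^ ((p : ℤ) * e + (i : ℕ)) ∧
          V.valuation (algebraMap K L k) = V.valuation (algebraMap A L π) ^ e := by
      intro k hk i
      obtain ⟨e, he⟩ := exists_zpow A K hV hπ hk
      exact ⟨e, by rw [map_mul, map_pow, he, ← h3, zpow_add₀ hpos.ne', zpow_mul, zpow_natCast, zpow_natCast], he⟩
    refine ⟨fun i => (V.valuation_le_one_iff _).mp (by rw [map_pow]; exact pow_le_one' hlt.le _), fun c i => ?_,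
      fun k i hk => ?_⟩
    · set t : Fin p → L := fun i => algebraMap K L (c i) * ρ ^ (i : ℕ) with ht
      obtain ⟨m, -, hm⟩ := Finset.exists_max_image Finset.univ (fun i => V.valuation (t i)) ⟨i, Finset.mem_univ _⟩
      by_cases hm0 : t m = 0
      · have := hm i (Finset.mem_univ _)
        rw [hm0, map_zero] at this
        exact this.trans zero_le
      rw [V.valuation.map_sum_eq_of_lt (Finset.mem_univ m) fun k hk => ?_]
      · exact hm i (Finset.mem_univ _)
      refine lt_of_le_of_ne (hm k (Finset.mem_univ _)) fun heq => ?_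
      have hcm : c m ≠ 0 := fun h => hm0 (by rw [ht]; simp [h])
      have hck : c k ≠ 0 := fun h => hm0 ((map_eq_zero V.valuation).mp (by
        rw [← heq]; simp [h]))
      obtain ⟨e, he, -⟩ := hval _ hcm m
      obtain ⟨e', he', -⟩ := hval _ hck k
      rw [he, he'] at heq
      have h5 := zpow_right_injective₀ hpos hlt.ne heq
      have hkm : k ≠ m := fun h => (Finset.mem_sdiff.mp hk).2 (Finset.mem_singleton.mpr h)
      apply hkm
      refine Fin.ext ?_
      have := k.2
      have := m.2
      rcases lt_trichotomy e' e with hl | rfl | hl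
      · nlinarith
      · omega
      · nlinarith
    · by_cases hk0 : k = 0
      · exact ⟨0, by rw [map_zero, hk0]⟩
      obtain ⟨e, he, he'⟩ := hval k hk0 i
      refine exists_eq_algebraMap A K hV ?_
      rw [he] at hk
      rw [he']
      have he0 : 0 ≤ e := by
        by_contra hneg
        refine hk.not_gt (one_lt_zpow_of_neg₀ hpos hlt ?_)
        have := i.2
        nlinarith
      obtain ⟨e₀, rfl⟩ := Int.eq_ofNat_of_zero_le he0
      rw [zpow_natCast]
      exact pow_le_one' (valuation_le_one hV π) _
  obtain ⟨V₀, hV₀⟩ := exists_dominates A K (L := L)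
  have hρ0 : ρ ≠ 0 := fun h => (facts V₀ hV₀).2.1.ne' (by rw [h, map_zero])
  obtain ⟨hrank, hspan⟩ := span_eq_top hp (hb.linearIndependent fun i => pow_ne_zero _ hρ0) hle
  refine ⟨⟨⟨V₀, hV₀⟩, hb.unique hspan, fun V hV y => ?_⟩, hrank⟩
  obtain ⟨x, rfl⟩ := residue_surjective y
  obtain ⟨c, hc⟩ := hb.exists_coeff hspan hV x.2
  refine ⟨c ⟨0, hp⟩, ((Ideal.Quotient.eq (I := maximalIdeal V)).mpr ?_ :)⟩
  refine (ValuationSubring.valuation_lt_one_iff V _).mpr ?_
  show V.valuation (algebraMap A L (c ⟨0, hp⟩) - (x : L)) < 1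
  rw [hc, ← Finset.sum_erase_add _ _ (Finset.mem_univ (⟨0, hp⟩ : Fin p)), pow_zero, mul_one, sub_add_cancel_right,
    Valuation.map_neg]
  refine V.valuation.map_sum_lt one_ne_zero fun k hk => ?_
  have hk0 : (k : ℕ) ≠ 0 := fun h => (Finset.mem_erase.mp hk).1 (Fin.ext h)
  rw [map_mul, map_pow]
  exact (mul_le_of_le_one_left' (valuation_le_one hV _)).trans_lt (pow_lt_one₀ zero_le (facts V hV).2.2 hk0)

/-- A residue equation `X ^ p = a` without root gives a purely inseparable residue extension. -/
theorem insepCase {p : ℕ} (hp : p.Prime) [CharP (ResidueField A) p] {π : A} (hπ : Irreducible π) {Q : A[X]}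
    (hQ : Q.Monic) (hdeg : Q.natDegree = p) (hQb : Q.map (residue A) = X ^ p) {w : L}
    (hgen : IntermediateField.adjoin K {w} = ⊤) {a : A} (hw : aeval w Q = algebraMap A L a)
    (hr : ∀ r : A, residue A a ≠ residue A r ^ p) : InsepCase p A (algebraMap A L) := by
  classical
  haveI := Fact.mk hp
  obtain ⟨hfin, hle⟩ := finite_of_gen (K := K) (z := w) (f := Q.map (algebraMap A K) - C (algebraMap A K a))
    (fun h => by
      have h1 := congrArg Polynomial.natDegree h
      rw [natDegree_sub_C, hQ.natDegree_map, hdeg, natDegree_zero] at h1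
      exact hp.ne_zero h1)
    (by rw [map_sub, aeval_map_algebraMap, hw, aeval_C, ← IsScalarTower.algebraMap_apply, sub_self]) hgen
  rw [natDegree_sub_C, hQ.natDegree_map, hdeg] at hle
  haveI := hfin
  have hroot : ∀ b : ResidueField A, b ^ p ≠ residue A a := fun b hb => by
    obtain ⟨r, rfl⟩ := residue_surjective b
    exact hr r hb.symm
  have hirr := X_pow_sub_C_irreducible_of_prime hp hroot
  -- facts at each valuation ring
  have facts : ∀ (V : ValuationSubring L) (hV : EtRam.Dominates A (algebraMap A L) V), w ∈ V ∧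
      ∀ c : Fin p → A, (∃ i, IsUnit (c i)) → V.valuation (∑ i, algebraMap A L (c i) * w ^ (i : ℕ)) = 1 := by
    intro V hV
    letI : Algebra A V := (RingHom.codRestrict (algebraMap A L) V hV.1).toAlgebra
    haveI := isLocalHom_codRestrict hV
    haveI : IsScalarTower A V L := IsScalarTower.of_algebraMap_eq fun _ => rfl
    have hwV : w ∈ V := by
      by_contra hwV
      have h1 : 1 < V.valuation w := not_le.mp fun h => hwV ((V.valuation_le_one_iff w).mp h)
      have h2 := (valuation_aeval hV hQ w).1 h1
      rw [hw] at h2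
      exact (one_lt_pow₀ h1 (by rw [hdeg]; exact hp.ne_zero)).not_ge (h2 ▸ valuation_le_one hV a)
    refine ⟨hwV, fun c hc => ?_⟩
    have hθ : residue V ⟨w, hwV⟩ ^ p = algebraMap (ResidueField A) (ResidueField V) (residue A a) := by
      have h1 : aeval (⟨w, hwV⟩ : V) Q = algebraMap A V a := Subtype.ext (by
        refine Eq.trans ?_ hw
        exact (aeval_algebraMap_apply L (⟨w, hwV⟩ : V) Q).symm)
      have h2 := congrArg (residue V) h1
      rw [aeval_def, hom_eval₂, show (residue V).comp (algebraMap A V) =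
        (algebraMap (ResidueField A) (ResidueField V)).comp (residue A) from rfl, ← eval₂_map, hQb, eval₂_X_pow] at h2
      exact h2
    set θ := residue V ⟨w, hwV⟩
    have hmin : minpoly (ResidueField A) θ = X ^ p - C (residue A a) :=
      (minpoly.eq_of_irreducible_of_monic hirr (by rw [map_sub, map_pow, aeval_X, aeval_C, hθ, sub_self])
        (monic_X_pow_sub_C _ hp.ne_zero)).symm
    have hli : LinearIndependent (ResidueField A) (fun i : Fin p => θ ^ (i : ℕ)) := by
      have h := linearIndependent_pow (K := ResidueField A) θ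
      rw [hmin, natDegree_X_pow_sub_C] at h
      exact h
    have hmem : ∑ i, algebraMap A L (c i) * w ^ (i : ℕ) ∈ V :=
      sum_mem fun i _ => mul_mem (hV.1 (c i)) (pow_mem hwV _)
    refine (V.valuation_eq_one_iff ⟨_, hmem⟩).mp ?_
    rw [← notMem_maximalIdeal, ← residue_eq_zero_iff]
    intro h
    have h' : ∑ i, residue A (c i) • θ ^ (i : ℕ) = 0 := by
      rw [← h, show (⟨_, hmem⟩ : V) =
        ∑ i, algebraMap A V (c i) * (⟨w, hwV⟩ : V) ^ (i : ℕ) from Subtype.ext (by
          show _ = V.subtype (∑ i, _)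
          rw [map_sum]; rfl), map_sum]
      refine Finset.sum_congr rfl fun i _ => ?_
      rw [map_mul, map_pow, Algebra.smul_def]
      rfl
    obtain ⟨i, hi⟩ := hc
    exact (hi.map (residue A)).ne_zero (Fintype.linearIndependent_iff.mp hli _ h' i)
  have hb : IsOrthogonal A K (fun i : Fin p => w ^ (i : ℕ)) := by
    intro V hV
    obtain ⟨hwV, hunit⟩ := facts V hV
    refine ⟨fun i => pow_mem hwV _, fun c i => ?_, fun k i hk => ?_⟩
    · obtain ⟨m, -, hm⟩ := Finset.exists_max_image Finset.univ (fun i => V.valuation (algebraMap K L (c i)))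
        ⟨i, Finset.mem_univ _⟩
      have hile : V.valuation (algebraMap K L (c i) * w ^ (i : ℕ)) ≤ V.valuation (algebraMap K L (c m)) := by
        rw [map_mul]
        exact (mul_le_of_le_one_right' ((V.valuation_le_one_iff _).mpr (pow_mem hwV _))).trans (hm i (Finset.mem_univ _))
      by_cases hm0 : c m = 0
      · rw [hm0, map_zero, map_zero] at hile
        exact hile.trans zero_le
      refine hile.trans_eq ?_
      have hm1 : 0 < V.valuation (algebraMap K L (c m)) :=
        zero_lt_iff.mpr ((_root_.map_ne_zero _).mpr ((_root_.map_ne_zero _).mpr hm0))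
      have hd : ∀ j, ∃ b : A, algebraMap A K b = c j / c m := fun j => exists_eq_algebraMap A K hV (by
        rw [map_div₀, map_div₀]
        exact (div_le_one₀ hm1).mpr (hm j (Finset.mem_univ _)))
      choose d hd using hd
      have hdm : d m = 1 := IsFractionRing.injective A K (by rw [hd, div_self hm0, map_one])
      have hsum : ∑ j, algebraMap K L (c j) * w ^ (j : ℕ) =
          algebraMap K L (c m) * ∑ j, algebraMap A L (d j) * w ^ (j : ℕ) := by
        rw [Finset.mul_sum]
        refine Finset.sum_congr rfl fun j _ => ?_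
        rw [IsScalarTower.algebraMap_apply A K L, hd, ← mul_assoc, ← map_mul, mul_div_cancel₀ _ hm0]
      rw [hsum, map_mul, hunit d ⟨m, hdm ▸ isUnit_one⟩, mul_one]
    · have hw1 : V.valuation w = 1 := by
        have h1 : (1 : ℕ) < p := hp.one_lt
        have h := hunit (fun j => if j = ⟨1, h1⟩ then 1 else 0) ⟨⟨1, h1⟩, by simp⟩
        simpa using h
      rw [map_mul, map_pow, hw1, one_pow, mul_one] at hk
      exact exists_eq_algebraMap A K hV hk
  have hw0 : w ≠ 0 := fun h => hr 0 (by
    rw [h, ← coeff_zero_eq_aeval_zero'] at hw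
    rw [map_zero, zero_pow hp.ne_zero, ← injective_algebraMap A K hw]
    have h2 := congrArg (fun q : (ResidueField A)[X] => q.coeff 0) hQb
    simpa [coeff_X_pow, hp.ne_zero.symm] using h2)
  obtain ⟨hrank, hspan⟩ := span_eq_top hp.pos (hb.linearIndependent fun i => pow_ne_zero _ hw0) hle
  refine ⟨exists_dominates A K, hb.unique hspan, fun V hV => ?_⟩
  letI : Algebra A V := (RingHom.codRestrict (algebraMap A L) V hV.1).toAlgebra
  intro _
  haveI : IsScalarTower A V L := IsScalarTower.of_algebraMap_eq fun _ => rfl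
  obtain ⟨hwV, hunit⟩ := facts V hV
  have hcoe : ∀ c : Fin p → A, ((∑ i, algebraMap A V (c i) * (⟨w, hwV⟩ : V) ^ (i : ℕ) : V) : L) =
      ∑ i, algebraMap A L (c i) * w ^ (i : ℕ) := fun c => by
    show V.subtype _ = _
    rw [map_sum]; rfl
  refine ⟨le_antisymm ?_ fun x hx => ?_, ?_⟩
  · exact Ideal.map_le_iff_le_comap.mpr fun b hb' => (mem_maximalIdeal _).mpr fun hu =>
      (mem_maximalIdeal b).mp hb' ((isUnit_map_iff (algebraMap A V) b).mp hu)
  · obtain ⟨c, hc⟩ := hb.exists_coeff hspan hV x.2
    have hcm : ∀ i, c i ∈ maximalIdeal A := by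
      by_contra h
      push Not at h
      obtain ⟨i, hi⟩ := h
      exact ((ValuationSubring.valuation_lt_one_iff V x).mp hx).ne
        ((congrArg V.valuation hc).trans (hunit c ⟨i, notMem_maximalIdeal.mp hi⟩))
    rw [show x = ∑ i, algebraMap A V (c i) * (⟨w, hwV⟩ : V) ^ (i : ℕ) from Subtype.ext (hc.trans (hcoe c).symm)]
    exact Ideal.sum_mem _ fun i _ => Ideal.mul_mem_right _ _ (Ideal.mem_map_of_mem _ (hcm i))
  set θ := residue V ⟨w, hwV⟩
  have hθ : θ ^ p = algebraMap (ResidueField A) (ResidueField V) (residue A a) := by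
    have h1 : aeval (⟨w, hwV⟩ : V) Q = algebraMap A V a := Subtype.ext (by
      refine Eq.trans ?_ hw
      exact (aeval_algebraMap_apply L (⟨w, hwV⟩ : V) Q).symm)
    have h2 := congrArg (residue V) h1
    rw [aeval_def, hom_eval₂, show (residue V).comp (algebraMap A V) =
      (algebraMap (ResidueField A) (ResidueField V)).comp (residue A) from rfl, ← eval₂_map, hQb, eval₂_X_pow] at h2
    exact h2
  have hspanres : ⊤ ≤ Submodule.span (ResidueField A) (Set.range fun i : Fin p => θ ^ (i : ℕ)) := by
    rintro y -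
    obtain ⟨x, rfl⟩ := residue_surjective y
    obtain ⟨c, hc⟩ := hb.exists_coeff hspan hV x.2
    rw [show x = ∑ i, algebraMap A V (c i) * (⟨w, hwV⟩ : V) ^ (i : ℕ) from Subtype.ext (hc.trans (hcoe c).symm),
      map_sum]
    refine Submodule.sum_mem _ fun i _ => ?_
    rw [map_mul, map_pow, show residue V (algebraMap A V (c i)) * θ ^ (i : ℕ) = residue A (c i) • θ ^ (i : ℕ) from
      (Algebra.smul_def _ _).symm]
    exact Submodule.smul_mem _ _ (Submodule.subset_span ⟨i, rfl⟩)
  have hli : LinearIndependent (ResidueField A) (fun i : Fin p => θ ^ (i : ℕ)) := by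
    have h := linearIndependent_pow (K := ResidueField A) θ
    rw [show minpoly (ResidueField A) θ = X ^ p - C (residue A a) from
      (minpoly.eq_of_irreducible_of_monic hirr (by rw [map_sub, map_pow, aeval_X, aeval_C, hθ, sub_self])
        (monic_X_pow_sub_C _ hp.ne_zero)).symm, natDegree_X_pow_sub_C] at h
    exact h
  let bas := Module.Basis.mk hli hspanres
  haveI : ExpChar (ResidueField A) p := ExpChar.prime hp
  haveI : CharP (ResidueField V) p := (RingHom.charP_iff _ (algebraMap (ResidueField A) (ResidueField V)).injective p).mp ‹_›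
  refine ⟨(isPurelyInseparable_iff_pow_mem (ResidueField A) p).mpr fun y => ⟨1, ?_⟩,
    by rw [Module.finrank_eq_card_basis bas, Fintype.card_fin]⟩
  obtain ⟨c, rfl⟩ := Submodule.mem_span_range_iff_exists_fun (ResidueField A) |>.mp (hspanres (Submodule.mem_top (x := y)))
  rw [pow_one, sum_pow_char]
  refine sum_mem fun i _ => ⟨c i ^ p * residue A a ^ (i : ℕ), ?_⟩
  rw [map_mul, map_pow, map_pow, Algebra.smul_def, mul_pow, ← hθ, ← pow_mul, ← pow_mul, mul_comm p]

end Groth.L05.PrimeDegree
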