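import Groth.Agent.L05.PrimeDegree.Cases
import Groth.Agent.L05.PrimeDegree.Unramified
import Groth.Agent.S7140
import Mathlib.Algebra.CharP.Basic
import Mathlib.Algebra.Polynomial.Degree.Lemmas
import Mathlib.GroupTheory.OrderOfElement
import Mathlib.RingTheory.Polynomial.Cyclotomic.Basic

/-!
Kummer extensions of degree `p` of a discrete valuation field of mixed characteristic, in the variable which
makes the equation reduce to the Artin-Schreier equation.
-/

set_option autoImplicit false
set_option linter.style.haveILetI false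
set_option linter.unusedSectionVars false
universe u

open IsLocalRing Polynomial

namespace Groth.L05.PrimeDegree

/-- The hypotheses on `ζ` and the polynomial `P`. -/
structure KummerData (p : ℕ) (A : Type u) [CommRing A] [IsLocalRing A] (ζ : A) (P : A[X]) : Prop where
  pow_eq : ζ ^ p = 1
  ne_one : ζ ≠ 1
  mem : 1 - ζ ∈ maximalIdeal A
  eq : C ((1 - ζ) ^ p) * P = (1 + C (1 - ζ) * X) ^ p - 1
  monic : P.Monic
  degree : P.natDegree = p
  map : P.map (residue A) = X ^ p - X

theorem kummerData {p : ℕ} (hp : p.Prime) {A : Type u} [CommRing A] [IsDomain A] [IsLocalRing A] [CharZero A]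
    [CharP (ResidueField A) p] {ζ : A} (hζ : aeval ζ (cyclotomic p ℤ) = 0) {P : A[X]}
    (hP : C ((1 - ζ) ^ p) * P = (1 + C (1 - ζ) * X) ^ p - 1) : KummerData p A ζ P := by
  haveI := Fact.mk hp
  have hsum : ∑ i ∈ Finset.range p, ζ ^ i = 0 := by
    rw [cyclotomic_prime] at hζ; simpa [map_sum] using hζ
  have hne : ζ ≠ 1 := fun h => by
    rw [h] at hsum
    simp only [one_pow, Finset.sum_const, Finset.card_range, nsmul_one, Nat.cast_eq_zero] at hsum
    exact hp.ne_zero hsum
  have hpow : ζ ^ p = 1 := by rw [← sub_eq_zero, ← geom_sum_mul, hsum, zero_mul]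
  have hmem : 1 - ζ ∈ maximalIdeal A := by
    rw [← residue_eq_zero_iff, map_sub, map_one]
    refine eq_zero_of_pow_eq_zero (n := p) ?_
    rw [sub_pow_char, one_pow, ← map_pow, hpow, map_one, sub_self]
  have hlam : (1 - ζ) ≠ 0 := sub_ne_zero.mpr hne.symm
  have hlin : (1 + C (1 - ζ) * X : A[X]).natDegree = 1 := by
    rw [add_comm, ← C_1, natDegree_linear hlam]
  have hdeg : P.natDegree = p := by
    have h1 := congrArg natDegree hP
    rw [natDegree_C_mul (pow_ne_zero _ hlam), natDegree_sub_eq_left_of_natDegree_lt (by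
      rw [natDegree_one, natDegree_pow, hlin, mul_one]; exact hp.pos), natDegree_pow, hlin, mul_one] at h1
    exact h1
  have hmon : P.Monic := by
    have h1 := congrArg (fun q : A[X] => q.coeff p) hP
    have h2 : ((1 + C (1 - ζ) * X : A[X]) ^ p).coeff p = (1 - ζ) ^ p := by
      have h3 := coeff_pow_of_natDegree_le (m := p) (n := 1) hlin.le
      rw [mul_one] at h3
      rw [h3]
      simp [coeff_one]
    simp only [coeff_C_mul, coeff_sub, h2, coeff_one, hp.ne_zero, if_false, sub_zero] at h1
    rw [Monic, leadingCoeff, hdeg]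
    exact mul_left_cancel₀ (pow_ne_zero p hlam) (h1.trans (mul_one _).symm)
  refine ⟨hpow, hne, hmem, hP, hmon, hdeg, ?_⟩
  obtain ⟨P', hP', ⟨a, ha, hform⟩, -⟩ := Groth.Agent.S7140.result p hp A ζ hζ
  have hPP : P = P' := mul_left_cancel₀ (C_ne_zero.mpr (pow_ne_zero p hlam)) (hP.trans hP'.symm)
  rw [hPP, hform, Polynomial.map_add, Polynomial.map_sub, Polynomial.map_pow, map_X, Polynomial.map_sum]
  refine add_eq_left.mpr (Finset.sum_eq_zero fun i _ => ?_)
  rw [Polynomial.map_mul, map_C, (residue_eq_zero_iff _).mpr (Ideal.span_le.mpr (by simpa using hmem) (ha i)),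
    C_0, zero_mul]

variable {p : ℕ} {A K L : Type u} [CommRing A] [IsDomain A] [IsDiscreteValuationRing A] [Field K] [Algebra A K]
  [IsFractionRing A K] [Field L] [Algebra K L] [Algebra A L] [IsScalarTower A K L]
variable {ζ : A} {P : A[X]} (hd : KummerData p A ζ P) (hp : p.Prime)
include hd hp

theorem KummerData.lam_ne_zero (S : Type u) [CommRing S] [Algebra A S] (hinj : Function.Injective (algebraMap A S)) :
    algebraMap A S (1 - ζ) ≠ 0 :=
  (map_ne_zero_iff _ hinj).mpr (sub_ne_zero.mpr hd.ne_one.symm)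

theorem KummerData.key (S : Type u) [CommRing S] [Algebra A S] (z : S) :
    algebraMap A S (1 - ζ) ^ p * aeval z P = (1 + algebraMap A S (1 - ζ) * z) ^ p - 1 := by
  have h := congrArg (aeval z) hd.eq
  simpa [map_pow] using h

variable {ξ : K} {z : L} (hgen : IntermediateField.adjoin K {z} = ⊤) (hz : aeval z P = algebraMap K L ξ)
include hgen hz

theorem KummerData.finrank_one (hu : 1 + algebraMap A K (1 - ζ) ^ p * ξ = 0) :
    IsGalois K L ∧ Module.finrank K L = 1 := by
  have hl := hd.lam_ne_zero hp L (injective_algebraMap A K)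
  have hlK := hd.lam_ne_zero hp K (IsFractionRing.injective A K)
  have h0 : 1 + algebraMap A L (1 - ζ) * z = 0 := by
    refine eq_zero_of_pow_eq_zero (n := p) ?_
    have h := hd.key hp L z
    rw [hz, IsScalarTower.algebraMap_apply A K L, ← map_pow, ← map_mul, eq_sub_iff_add_eq,
      ← map_one (algebraMap K L), ← map_add, add_comm, hu, map_zero, map_one] at h
    rw [IsScalarTower.algebraMap_apply A K L]
    exact h.symm
  have hzk : z = algebraMap K L (-(algebraMap A K (1 - ζ))⁻¹) := by
    rw [map_neg, map_inv₀, ← IsScalarTower.algebraMap_apply, eq_neg_iff_add_eq_zero]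
    field_simp
    linear_combination h0
  obtain ⟨hgal, hfin, hle, -⟩ := isGalois_of_roots (f := X - C (-(algebraMap A K (1 - ζ))⁻¹)) (monic_X_sub_C _)
    (natDegree_X_sub_C _) (fun _ : Fin 1 => z) (fun i j _ => Subsingleton.elim i j)
    (fun _ => by rw [map_sub, aeval_X, aeval_C, ← hzk, sub_self]) 0 rfl hgen
  haveI := hfin
  exact ⟨hgal, le_antisymm hle Module.finrank_pos⟩

theorem KummerData.galois : IsGalois K L ∧ (Module.finrank K L = 1 ∨ Module.finrank K L = p) := by
  classical
  haveI := Fact.mk hp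
  by_cases hu : 1 + algebraMap A K (1 - ζ) ^ p * ξ = 0
  · exact (hd.finrank_one hp hgen hz hu).imp id Or.inl
  have hl := hd.lam_ne_zero hp L (injective_algebraMap A K)
  set y : L := 1 + algebraMap A L (1 - ζ) * z with hy
  have hyp : y ^ p = algebraMap K L (1 + algebraMap A K (1 - ζ) ^ p * ξ) := by
    rw [hy, map_add, map_one, map_mul, map_pow, ← IsScalarTower.algebraMap_apply, ← hz, hd.key hp L z]
    ring
  have hy0 : y ≠ 0 := fun h => hu ((_root_.map_eq_zero (algebraMap K L)).mp (by rw [← hyp, h, zero_pow hp.ne_zero]))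
  set ω : L := algebraMap A L ζ with hω
  have hωp : ω ^ p = 1 := by rw [hω, ← map_pow, hd.pow_eq, map_one]
  have hωo : orderOf ω = p := orderOf_eq_prime hωp fun h =>
    hd.ne_one (injective_algebraMap A K (by rw [← hω, h, map_one]))
  set r : Fin p → L := fun i => (ω ^ (i : ℕ) * y - 1) / algebraMap A L (1 - ζ) with hr
  have hr0 : r ⟨0, hp.pos⟩ = z := by
    simp only [hr, pow_zero, one_mul, hy, add_sub_cancel_left]
    exact mul_div_cancel_left₀ z hl
  have hinj : Function.Injective r := fun i j h => Fin.ext (pow_injOn_Iio_orderOf (x := ω) (hωo.symm ▸ i.2)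
    (hωo.symm ▸ j.2) (mul_right_cancel₀ hy0 (sub_left_inj.mp ((div_left_inj' hl).mp h))))
  obtain ⟨hgal, hfin, hle, hconj⟩ := isGalois_of_roots (f := P.map (algebraMap A K) - C ξ)
    ((hd.monic.map _).sub_of_left (by
      rw [degree_eq_natDegree (hd.monic.map _).ne_zero, hd.monic.natDegree_map, hd.degree]
      exact degree_C_le.trans_lt (by exact_mod_cast hp.pos)))
    (by rw [natDegree_sub_C, hd.monic.natDegree_map, hd.degree]) r hinj
    (fun i => by
      rw [map_sub, aeval_map_algebraMap, aeval_C, sub_eq_zero]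
      refine mul_left_cancel₀ (pow_ne_zero p hl) ?_
      have h1 : algebraMap A L (1 - ζ) * r i = ω ^ (i : ℕ) * y - 1 := mul_div_cancel₀ _ hl
      rw [hd.key hp L, h1, add_sub_cancel, mul_pow, ← pow_mul, mul_comm (i : ℕ), pow_mul, hωp, one_pow, one_mul,
        ← hz, hd.key hp L, hy])
    ⟨0, hp.pos⟩ hr0 hgen
  haveI := hgal
  haveI := hfin
  refine ⟨hgal, finrank_cases hp hle fun σ => algEquiv_ext hgen ?_⟩
  obtain ⟨i, hi⟩ := hconj σ
  have hσA : ∀ a : A, σ (algebraMap A L a) = algebraMap A L a := fun a => by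
    rw [IsScalarTower.algebraMap_apply A K L, σ.commutes]
  have hσy : σ y = ω ^ (i : ℕ) * y := by
    conv_lhs => rw [hy]
    rw [map_add, map_one, map_mul, hσA, hi]
    simp only [hr]
    rw [mul_div_cancel₀ _ hl, add_sub_cancel]
  have key : ∀ j : ℕ, (σ ^ j) y = ω ^ ((i : ℕ) * j) * y := by
    intro j
    induction j with
    | zero => simp
    | succ j ih =>
      rw [pow_succ', AlgEquiv.mul_apply, ih, map_mul, map_pow, hω, hσA, ← hω, hσy, ← mul_assoc, ← pow_add, Nat.mul_succ]
  have hσp := key p
  rw [mul_comm (i : ℕ), pow_mul, hωp, one_pow, one_mul, hy, map_add, map_one, map_mul] at hσp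
  rw [show (σ ^ p) (algebraMap A L (1 - ζ)) = algebraMap A L (1 - ζ) by
    rw [IsScalarTower.algebraMap_apply A K L, AlgEquiv.commutes]] at hσp
  rw [AlgEquiv.one_apply]
  exact mul_left_cancel₀ hl (add_left_cancel hσp)

/-- An integral right hand side. -/
theorem KummerData.integral [CharP (ResidueField A) p] (h : ∃ a : A, algebraMap A K a = ξ) :
    Module.finrank K L = 1 ∨ (EtRam.IsUnramifiedExt A (algebraMap A L) ∧ Module.finrank K L = p) := by
  obtain ⟨a, rfl⟩ := h
  refine (hd.galois hp hgen hz).2.imp_right fun h => ⟨?_, h⟩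
  refine isUnramifiedExt (f := P - C a) (hd.monic.sub_of_left ?_) ?_ hgen ?_
  · rw [degree_eq_natDegree hd.monic.ne_zero, hd.degree]
    exact degree_C_le.trans_lt (by exact_mod_cast hp.pos)
  · rw [Polynomial.map_sub, hd.map, map_C, separable_def']
    refine ⟨0, -1, ?_⟩
    rw [derivative_sub, derivative_sub, derivative_X_pow, derivative_X, derivative_C, CharP.cast_eq_zero]
    simp
  · rw [map_sub, aeval_C, hz, IsScalarTower.algebraMap_apply A K L, sub_self]

variable {π : A} (hπ : Irreducible π)
include hπ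

/-- A pole of order prime to `p`. -/
theorem KummerData.totallyRamified {n : ℕ} {a : Aˣ} (hn : 0 < n) (hnp : ¬ p ∣ n)
    (ha : ξ * algebraMap A K π ^ n = algebraMap A K a) :
    EtRam.IsTotallyRamified A (algebraMap A L) ∧ Module.finrank K L = p :=
  Groth.L05.PrimeDegree.totallyRamified hp.pos hπ hd.monic hd.degree hgen hz hn
    ((hp.coprime_iff_not_dvd.mpr hnp).symm) a ha

/-- A pole of order divisible by `p` whose coefficient has no root in the residue field. -/
theorem KummerData.insep [CharP (ResidueField A) p] {n : ℕ} {a : A} (hn : 0 < n) (hnp : p ∣ n)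
    (hr : ∀ r : A, residue A a ≠ residue A r ^ p)
    (ha : ξ * algebraMap A K π ^ n = algebraMap A K a) : InsepCase p A (algebraMap A L) := by
  obtain ⟨m, rfl⟩ := hnp
  have hm : m ≠ 0 := fun h => by simp [h] at hn
  have hπ0 : algebraMap A L π ≠ 0 :=
    (map_ne_zero_iff _ (injective_algebraMap A K (L := L))).mpr hπ.ne_zero
  refine insepCase (K := K) hp hπ (Q := P.scaleRoots (π ^ m)) ((monic_scaleRoots_iff _).mpr hd.monic)
    (by rw [natDegree_scaleRoots, hd.degree]) ?_ (w := algebraMap A L (π ^ m) * z) ?_ ?_ hr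
  · rw [map_scaleRoots _ _ _ (by rw [hd.monic.leadingCoeff, map_one]; exact one_ne_zero), map_pow,
      show residue A π = 0 from (residue_eq_zero_iff π).mpr ((mem_maximalIdeal π).mpr hπ.not_isUnit),
      zero_pow hm, scaleRoots_zero, (hd.monic.map _).leadingCoeff, one_smul, hd.monic.natDegree_map, hd.degree]
  · refine adjoin_eq_top_of_mem hgen ?_
    have h := IntermediateField.mem_adjoin_simple_self K (algebraMap A L (π ^ m) * z)
    have h2 : z = algebraMap K L ((algebraMap A K (π ^ m))⁻¹) * (algebraMap A L (π ^ m) * z) := by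
      rw [← mul_assoc, map_inv₀, ← IsScalarTower.algebraMap_apply, inv_mul_cancel₀, one_mul]
      rw [map_pow]; exact pow_ne_zero _ hπ0
    rw [h2]
    exact mul_mem (IntermediateField.algebraMap_mem _ _) (by rwa [← h2])
  · rw [aeval_def, scaleRoots_eval₂_mul, ← aeval_def, hd.degree, hz, map_pow (algebraMap A L), ← pow_mul,
      IsScalarTower.algebraMap_apply A K L, IsScalarTower.algebraMap_apply A K L a, ← ha, map_mul, map_pow,
      mul_comm m p, mul_comm]

omit hπ in
/-- Multiplying `1 + (1 - ζ) z` by an element of the ground field. -/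
theorem KummerData.change {d : K} (hd0 : d ≠ 0) (ξ' : K)
    (h : 1 + algebraMap A K (1 - ζ) ^ p * ξ' = d ^ p * (1 + algebraMap A K (1 - ζ) ^ p * ξ)) :
    ∃ z' : L, IntermediateField.adjoin K {z'} = ⊤ ∧ aeval z' P = algebraMap K L ξ' := by
  have hl := hd.lam_ne_zero hp L (injective_algebraMap A K)
  set z' : L := (algebraMap K L d * (1 + algebraMap A L (1 - ζ) * z) - 1) / algebraMap A L (1 - ζ) with hz'
  have h1 : algebraMap A L (1 - ζ) * z' = algebraMap K L d * (1 + algebraMap A L (1 - ζ) * z) - 1 :=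
    mul_div_cancel₀ _ hl
  refine ⟨z', adjoin_eq_top_of_mem hgen ?_, ?_⟩
  · have hd0' : algebraMap K L d ≠ 0 := (_root_.map_ne_zero _).mpr hd0
    have hA : ∀ a : A, algebraMap A L a ∈ IntermediateField.adjoin K {z'} := fun a => by
      rw [IsScalarTower.algebraMap_apply A K L]; exact IntermediateField.algebraMap_mem _ _
    have h2 : z = ((1 + algebraMap A L (1 - ζ) * z') / algebraMap K L d - 1) / algebraMap A L (1 - ζ) := by
      rw [h1, add_sub_cancel, mul_div_cancel_left₀ _ hd0', add_sub_cancel_left, mul_div_cancel_left₀ _ hl]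
    rw [h2]
    exact div_mem (sub_mem (div_mem (add_mem (one_mem _) (mul_mem (hA _) (IntermediateField.mem_adjoin_simple_self K z')))
      (IntermediateField.algebraMap_mem _ _)) (one_mem _)) (hA _)
  · refine mul_left_cancel₀ (pow_ne_zero p hl) ?_
    have h3 : algebraMap K L (1 + algebraMap A K (1 - ζ) ^ p * ξ') =
        algebraMap K L (d ^ p * (1 + algebraMap A K (1 - ζ) ^ p * ξ)) := congrArg _ h
    rw [map_add, map_mul, map_mul, map_add, map_one, map_mul, map_pow, map_pow, ← IsScalarTower.algebraMap_apply,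
      ← hz, hd.key hp L z, add_sub_cancel, ← mul_pow] at h3
    rw [hd.key hp L z', h1, add_sub_cancel, ← h3]
    ring

end Groth.L05.PrimeDegree
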