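import Groth.Agent.L05.PrimeDegree.Kummer

/-!
The four cases for a Kummer extension: reduction of the equation by changes of the generator.
-/

set_option autoImplicit false
set_option linter.style.haveILetI false
set_option linter.unusedSectionVars false
universe u

open IsLocalRing Polynomial

namespace Groth.L05.PrimeDegree

variable {p : ℕ} {A K L : Type u} [CommRing A] [IsDomain A] [IsDiscreteValuationRing A] [Field K] [Algebra A K]
  [IsFractionRing A K] [Field L] [Algebra K L] [Algebra A L] [IsScalarTower A K L]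
  [CharP (ResidueField A) p]

variable (p A K L) in
/-- The four cases. -/
def FourCases : Prop :=
  Module.finrank K L = 1 ∨ (EtRam.IsUnramifiedExt A (algebraMap A L) ∧ Module.finrank K L = p) ∨
    (EtRam.IsTotallyRamified A (algebraMap A L) ∧ Module.finrank K L = p) ∨ InsepCase p A (algebraMap A L)

variable {ζ : A} {P : A[X]} (hd : KummerData p A ζ P) (hp : p.Prime) {π : A} (hπ : Irreducible π)
include hd hp hπ

/-- Right hand sides with a pole of order less than `p * v (1 - ζ)`. -/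
theorem KummerData.small {ε : Aˣ} {l : ℕ} (hl : 1 - ζ = ε * π ^ l) : ∀ (n : ℕ), n < p * l → ∀ (ξ : K) (z : L),
    IntermediateField.adjoin K {z} = ⊤ → aeval z P = algebraMap K L ξ →
    (∃ a : A, ξ * algebraMap A K π ^ n = algebraMap A K a) → FourCases p A K L := by
  intro n
  induction n with
  | zero =>
    intro _ ξ z hgen hz ⟨a, ha⟩
    rw [pow_zero, mul_one] at ha
    exact (hd.integral hp hgen hz ⟨a, ha.symm⟩).imp_right Or.inl
  | succ n ih =>
    intro hnl ξ z hgen hz ⟨a, ha⟩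
    haveI := Fact.mk hp
    have hπ0 : algebraMap A K π ≠ 0 := (map_ne_zero_iff _ (IsFractionRing.injective A K)).mpr hπ.ne_zero
    have hπr : residue A π = 0 := (residue_eq_zero_iff π).mpr ((mem_maximalIdeal π).mpr hπ.not_isUnit)
    have descend : ∀ (ξ' : K) (z' : L), IntermediateField.adjoin K {z'} = ⊤ → aeval z' P = algebraMap K L ξ' →
        ∀ a' : A, ξ' * algebraMap A K π ^ (n + 1) = algebraMap A K a' → ¬ IsUnit a' → FourCases p A K L := by
      intro ξ' z' hgen' hz' a' ha' hu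
      obtain ⟨c, rfl⟩ := Ideal.mem_span_singleton.mp (hπ.maximalIdeal_eq ▸ (mem_maximalIdeal a').mpr hu)
      exact ih (by omega) ξ' z' hgen' hz' ⟨c, mul_left_cancel₀ hπ0 (by rw [← map_mul, ← ha']; ring)⟩
    by_cases hu : IsUnit a
    swap
    · exact descend ξ z hgen hz a ha hu
    by_cases hnp : p ∣ n + 1
    swap
    · exact Or.inr (Or.inr (Or.inl (hd.totallyRamified hp hgen hz hπ n.succ_pos hnp (a := hu.unit) ha)))
    by_cases hr : ∀ r : A, residue A a ≠ residue A r ^ p
    · exact Or.inr (Or.inr (Or.inr (hd.insep hp hgen hz hπ n.succ_pos hnp hr ha)))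
    push Not at hr
    obtain ⟨r, hr⟩ := hr
    obtain ⟨m, hm⟩ := hnp
    have hm0 : m ≠ 0 := fun h => by simp [h] at hm
    have hml : m < l := Nat.lt_of_mul_lt_mul_left (a := p) (by omega)
    obtain ⟨e, he⟩ : ∃ e, l = m + (e + 1) := ⟨l - m - 1, by omega⟩
    have hδ : IsUnit (1 - ε * r * π ^ (e + 1) : A) := by
      rw [← notMem_maximalIdeal, ← residue_eq_zero_iff]
      simp [hπr]
    set δ : A := 1 - ε * r * π ^ (e + 1) with hδd
    set c : K := -(algebraMap A K r) / algebraMap A K π ^ m with hc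
    have hdc : algebraMap A K δ = 1 + algebraMap A K (1 - ζ) * c := by
      rw [hc, hl, he, hδd, map_sub, map_one, map_mul, map_mul, map_mul, map_pow, map_pow, pow_add]
      field_simp
      ring
    obtain ⟨z', hgen', hz'⟩ := hd.change hp hgen hz (d := algebraMap A K δ)
      ((map_ne_zero_iff _ (IsFractionRing.injective A K)).mpr hδ.ne_zero) (aeval c P + algebraMap A K δ ^ p * ξ) (by
        rw [mul_add, hd.key hp K c, ← hdc]
        ring)
    refine descend _ z' hgen' hz' ((P.scaleRoots (π ^ m)).eval (-r) + δ ^ p * a) ?_ ?_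
    · rw [map_add, map_mul, map_pow, ← ha, add_mul, mul_assoc]
      congr 1
      have h := scaleRoots_eval₂_mul (p := P) (algebraMap A K) c (π ^ m)
      rw [hd.degree, map_pow, ← pow_mul, mul_comm m p, ← hm] at h
      rw [aeval_def, mul_comm, ← h, show algebraMap A K π ^ m * c = algebraMap A K (-r) by
        rw [map_neg, hc, mul_div_cancel₀ _ (pow_ne_zero m hπ0)]]
      exact (eval₂_at_apply (algebraMap A K) (-r)).trans rfl
    · intro hu2
      refine (hu2.map (residue A)).ne_zero ?_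
      rw [map_add, map_mul, map_pow, ← eval₂_at_apply, ← eval_map,
        map_scaleRoots _ _ _ (by rw [hd.monic.leadingCoeff, map_one]; exact one_ne_zero), map_pow, hπr, zero_pow hm0,
        scaleRoots_zero, (hd.monic.map _).leadingCoeff, one_smul, hd.monic.natDegree_map, hd.degree, eval_pow, eval_X,
        hr, hδd]
      simp only [map_sub, map_one, map_mul, map_pow, map_neg, hπr, zero_pow (Nat.succ_ne_zero e), mul_zero, sub_zero,
        one_pow, one_mul]
      rw [← add_pow_char, neg_add_cancel, zero_pow hp.ne_zero]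

/-- The four cases cover everything. -/
theorem KummerData.trichotomy {ξ : K} {z : L} (hgen : IntermediateField.adjoin K {z} = ⊤)
    (hz : aeval z P = algebraMap K L ξ) : FourCases p A K L := by
  haveI := Fact.mk hp
  by_cases hu : 1 + algebraMap A K (1 - ζ) ^ p * ξ = 0
  · exact Or.inl (hd.finrank_one hp hgen hz hu).2
  obtain ⟨l, ε, hl⟩ := IsDiscreteValuationRing.eq_unit_mul_pow_irreducible (sub_ne_zero.mpr hd.ne_one.symm) hπ
  have hl0 : 0 < l := Nat.pos_of_ne_zero fun h => by
    rw [h, pow_zero, mul_one] at hl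
    exact (mem_maximalIdeal _).mp hd.mem (hl ▸ ε.isUnit)
  have hinj := IsFractionRing.injective A K
  have hπ0 : algebraMap A K π ≠ 0 := (map_ne_zero_iff _ hinj).mpr hπ.ne_zero
  have hπr : residue A π = 0 := (residue_eq_zero_iff π).mpr ((mem_maximalIdeal π).mpr hπ.not_isUnit)
  -- write `1 + λ ^ p ξ` as a unit times a power of `π`
  obtain ⟨η, k, hk⟩ : ∃ (η : Aˣ) (k : ℤ),
      1 + algebraMap A K (1 - ζ) ^ p * ξ = algebraMap A K η * algebraMap A K π ^ k := by
    obtain ⟨a, b, hb, hab⟩ := IsFractionRing.div_surjective (A := A) (1 + algebraMap A K (1 - ζ) ^ p * ξ)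
    have ha : a ≠ 0 := fun h => hu (by rw [← hab, h, map_zero, zero_div])
    obtain ⟨i, u, rfl⟩ := IsDiscreteValuationRing.eq_unit_mul_pow_irreducible ha hπ
    obtain ⟨i', u', rfl⟩ := IsDiscreteValuationRing.eq_unit_mul_pow_irreducible (nonZeroDivisors.ne_zero hb) hπ
    refine ⟨u * u'⁻¹, (i : ℤ) - i', ?_⟩
    rw [← hab, Units.val_mul, map_mul, map_mul, map_mul, map_units_inv, map_pow, map_pow, zpow_sub₀ hπ0, zpow_natCast,
      zpow_natCast]
    field_simp
  -- absorb a `p`-th power of `π`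
  obtain ⟨j, q, hq, hq0⟩ : ∃ (j : ℤ) (q : ℕ), p * j - k = q ∧ (q = 0 ∨ (¬ p ∣ q)) := by
    by_cases h : (p : ℤ) ∣ k
    · obtain ⟨j, hj⟩ := h
      exact ⟨j, 0, by rw [hj]; simp, Or.inl rfl⟩
    · refine ⟨|k| + 1, ((p : ℤ) * (|k| + 1) - k).toNat, ?_, Or.inr fun hdvd => h ?_⟩
      · have h1 : (1 : ℤ) ≤ p := by exact_mod_cast hp.pos
        rw [Int.toNat_of_nonneg]
        nlinarith [le_abs_self k, abs_nonneg k]
      · have h1 : (1 : ℤ) ≤ p := by exact_mod_cast hp.pos
        have h2 : ((p : ℤ)) ∣ (p : ℤ) * (|k| + 1) - k := by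
          rw [← Int.toNat_of_nonneg (a := (p : ℤ) * (|k| + 1) - k) (by nlinarith [le_abs_self k, abs_nonneg k])]
          exact_mod_cast hdvd
        have h3 := Int.dvd_sub (dvd_mul_right (p : ℤ) (|k| + 1)) h2
        rwa [sub_sub_cancel] at h3
  set d : K := algebraMap A K π ^ (-j) with hdd
  have hd0 : d ≠ 0 := zpow_ne_zero _ hπ0
  have hlam : algebraMap A K (1 - ζ) ≠ 0 := hd.lam_ne_zero hp K hinj
  have hnew : ∀ (d' : K), d' ≠ 0 → ∀ x : K, d' ^ p * (1 + algebraMap A K (1 - ζ) ^ p * ξ) = x →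
      ∃ z' : L, IntermediateField.adjoin K {z'} = ⊤ ∧
        aeval z' P = algebraMap K L ((x - 1) / algebraMap A K (1 - ζ) ^ p) := fun d' hd' x hx =>
    hd.change hp hgen hz hd' _ (by rw [mul_div_cancel₀ _ (pow_ne_zero _ hlam), add_sub_cancel, hx])
  have hval : d ^ p * (1 + algebraMap A K (1 - ζ) ^ p * ξ) = algebraMap A K η * (algebraMap A K π ^ q)⁻¹ := by
    rw [hk, hdd, mul_left_comm, ← zpow_natCast (algebraMap A K π ^ (-j)), ← zpow_mul, ← zpow_add₀ hπ0,
      show -j * (p : ℤ) + k = -(q : ℤ) by linear_combination -hq, zpow_neg, zpow_natCast]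
  have hεp : algebraMap A K ε ^ p ≠ 0 := pow_ne_zero _ ((map_ne_zero_iff _ hinj).mpr ε.ne_zero)
  rcases hq0 with rfl | hqp
  swap
  · obtain ⟨z', hgen', hz'⟩ := hnew d hd0 _ hval
    have hq1 : q ≠ 0 := fun h => hqp (h ▸ dvd_zero p)
    have hη : IsUnit (((η : A) - π ^ q) * ((ε⁻¹ : Aˣ) : A) ^ p) := by
      refine IsUnit.mul ?_ ((ε⁻¹).isUnit.pow p)
      rw [← notMem_maximalIdeal, ← residue_eq_zero_iff, map_sub, map_pow, hπr, zero_pow hq1, sub_zero]
      exact (η.isUnit.map (residue A)).ne_zero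
    refine Or.inr (Or.inr (Or.inl (hd.totallyRamified hp hgen' hz' hπ (n := p * l + q) (a := hη.unit) (by positivity)
      ?_ ?_)))
    · rwa [Nat.dvd_add_right (dvd_mul_right p l)]
    · rw [IsUnit.unit_spec, hl]
      simp only [map_mul, map_sub, map_pow, map_units_inv, pow_add, mul_pow, ← pow_mul, mul_comm l p, inv_pow]
      field_simp
  rw [pow_zero, inv_one, mul_one] at hval
  by_cases hs : ∀ s : A, residue A η ≠ residue A s ^ p
  · obtain ⟨z', hgen', hz'⟩ := hnew d hd0 _ hval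
    refine Or.inr (Or.inr (Or.inr (hd.insep hp hgen' hz' hπ (n := p * l) (a := ((η : A) - 1) * ((ε⁻¹ : Aˣ) : A) ^ p)
      (Nat.mul_pos hp.pos hl0) (dvd_mul_right p l) (fun r h => hs (ε * r + 1) ?_) ?_)))
    · have hεu : residue A (ε : A) * residue A ((ε⁻¹ : Aˣ) : A) = 1 := by rw [← map_mul, Units.mul_inv, map_one]
      rw [map_mul, map_sub, map_one, map_pow] at h
      rw [map_add, map_mul, map_one, add_pow_char, one_pow, mul_pow, ← h, mul_left_comm, ← mul_pow, hεu, one_pow,
        mul_one, sub_add_cancel]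
    · rw [hl]
      simp only [map_mul, map_sub, map_one, map_pow, map_units_inv, mul_pow, ← pow_mul, mul_comm l p, inv_pow]
      field_simp
  push Not at hs
  obtain ⟨s, hs⟩ := hs
  have hsu : IsUnit s := by
    rw [← notMem_maximalIdeal, ← residue_eq_zero_iff]
    intro h
    exact (η.isUnit.map (residue A)).ne_zero (by rw [hs, h, zero_pow hp.ne_zero])
  obtain ⟨v, rfl⟩ := hsu
  obtain ⟨z', hgen', hz'⟩ := hnew (d * algebraMap A K ((v⁻¹ : Aˣ) : A)) (mul_ne_zero hd0
    ((map_ne_zero_iff _ hinj).mpr (v⁻¹).ne_zero)) (algebraMap A K (η * ((v⁻¹ : Aˣ) : A) ^ p)) (by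
      rw [mul_pow, mul_right_comm, hval, map_mul, map_pow])
  obtain ⟨t, ht⟩ : π ∣ ((η : A) * ((v⁻¹ : Aˣ) : A) ^ p - 1) := by
    rw [← Ideal.mem_span_singleton, ← hπ.maximalIdeal_eq, ← residue_eq_zero_iff, map_sub, map_one, map_mul, hs,
      map_pow, ← mul_pow, ← map_mul, Units.mul_inv, map_one, one_pow, sub_self]
  obtain ⟨e, he⟩ : ∃ e, p * l = e + 1 := ⟨p * l - 1, by have := Nat.mul_pos hp.pos hl0; omega⟩
  refine hd.small hp hπ hl e (by omega) _ z' hgen' hz' ⟨t * ((ε⁻¹ : Aˣ) : A) ^ p, ?_⟩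
  rw [← map_one (algebraMap A K), ← map_sub, ht, hl, map_mul, map_mul, map_mul, map_pow, map_pow, map_units_inv,
    mul_pow, ← pow_mul, mul_comm l p, he, pow_succ, inv_pow]
  field_simp

end Groth.L05.PrimeDegree
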